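import Cfsg.Agent.H870.Tall.OrthCP

/-!
# Anisotropic planes orthogonal to a singular vector (helper870, for S2927)

* `anis_of_five` : dimension at least five, three elements;
* `anis_of_four` : dimension four, no totally singular planes;
* `exists_eig` : dimension eight, no totally singular subspaces of dimension four: every involution of `O Q` has an
  eigenspace with `Eig`;
* `rowTwo_E` : an involution in dimension at least seven commutes with an element of order three.
-/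

set_option autoImplicit false

namespace Cfsg.Agent.H870.Tall

open QuadraticMap Module Subgroup Cfsg.Agent.LieClassical Cfsg.Agent.LieClassical.OrthCore
  Cfsg.Agent.LieClassical.OrthTrans Cfsg.Agent.LieClassical.OrthFinite Cfsg.Agent.H237.OSevenB
open Cfsg.Agent.H239.CharPLocal (CP)

section planes

variable {F V : Type*} [Field F] [AddCommGroup V] [Module F V] {Q : QuadraticForm F V}

theorem sum_sq (hF : Nat.card F = 3) {α β : F} (h : α * α + β * β = 0) : α = 0 ∧ β = 0 := by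
  have h2 := Cfsg.Agent.H237.OSevenC.two_ne hF
  rcases Cfsg.Agent.H237.OSevenC.field_cases hF α with rfl | rfl | rfl <;>
  rcases Cfsg.Agent.H237.OSevenC.field_cases hF β with rfl | rfl | rfl
  · exact ⟨rfl, rfl⟩
  · exact absurd (by linear_combination h) (one_ne_zero (α := F))
  · exact absurd (by linear_combination h) (one_ne_zero (α := F))
  · exact absurd (by linear_combination h) (one_ne_zero (α := F))
  · exact absurd (by linear_combination h) h2
  · exact absurd (by linear_combination h) h2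
  · exact absurd (by linear_combination h) (one_ne_zero (α := F))
  · exact absurd (by linear_combination h) h2
  · exact absurd (by linear_combination h) h2

theorem anis_of_five [Finite F] (hF : Nat.card F = 3) (hQ : Nondeg Q) (hd : 5 ≤ finrank F V) {x : V} (hx : Q x = 0)
    (hx0 : x ≠ 0) : ∃ a b, Anis Q x a b := by
  obtain ⟨y, hxy⟩ := exists_hyp hQ hx hx0
  obtain ⟨e, he0, hQe, he⟩ := exists_sing_perp (Q := Q) ![x, y] (by omega)
  have hxe : polar Q x e = 0 := he 0
  have hye : polar Q y e = 0 := he 1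
  obtain ⟨f, hef, hxf, hyf⟩ := exists_hyp_perp hQ hxy hQe he0 hxe hye
  obtain ⟨a, c, ⟨hxa, -, hea, hfa⟩, ⟨hxc, -, hec, hfc⟩, hac⟩ := exists_perp4 hQ hd hxy hef hxe hxf hye hyf
  have key : ∃ g, polar Q x g = 0 ∧ polar Q e g = 0 ∧ polar Q f g = 0 ∧ Q g ≠ 0 := by
    rcases exists_nonsing hac with h | h | h
    · exact ⟨a, hxa, hea, hfa, h⟩
    · exact ⟨c, hxc, hec, hfc, h⟩
    · exact ⟨a + c, by rw [polar_add_right, hxa, hxc, add_zero], by rw [polar_add_right, hea, hec, add_zero],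
        by rw [polar_add_right, hfa, hfc, add_zero], h⟩
  obtain ⟨g, hxg, heg, hfg, hg⟩ := key
  refine ⟨e + Q g • f, g, ?_, hxg, ?_⟩
  · rw [polar_add_right, polar_smul_right, hxe, hxf, smul_zero, add_zero]
  · intro α β h
    have h1 : Q (α • (e + Q g • f) + β • g) = Q g * (α * α + β * β) := by
      rw [Q_add, QuadraticMap.map_smul, QuadraticMap.map_smul, Q_add, QuadraticMap.map_smul, hef.left, hef.right,
        polar_smul_right, hef.pair, polar_smul_left, polar_smul_right, polar_add_left, polar_smul_left, heg, hfg]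
      simp only [smul_eq_mul]
      ring
    rw [h1] at h
    exact sum_sq hF ((mul_eq_zero.1 h).resolve_left hg)

theorem anis_of_four (h2 : (2 : F) ≠ 0) (hQ : Nondeg Q) (hd : 4 ≤ finrank F V)
    (hts : ∀ u v, Q u = 0 → Q v = 0 → polar Q u v = 0 → u ≠ 0 → ∃ c : F, v = c • u) {x : V} (hx : Q x = 0)
    (hx0 : x ≠ 0) : ∃ a b, Anis Q x a b := by
  obtain ⟨y, hxy⟩ := exists_hyp hQ hx hx0
  have key : ∀ v, polar Q x v = 0 → polar Q y v = 0 → Q v = 0 → v = 0 := by
    intro v h1 h3 h4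
    obtain ⟨c, rfl⟩ := hts x v hx h4 h1 hx0
    rw [polar_smul_right, hxy.pair', smul_eq_mul, mul_one] at h3
    rw [h3, zero_smul]
  obtain ⟨a, ha0, ha⟩ := exists_perp_ne (Q := Q) ![x, y] (by omega)
  have hxa : polar Q x a = 0 := ha 0
  have hya : polar Q y a = 0 := ha 1
  obtain ⟨b, hb0, hb⟩ := exists_perp_ne (Q := Q) ![x, y, a] (by omega)
  have hxb : polar Q x b = 0 := hb 0
  have hyb : polar Q y b = 0 := hb 1
  have hab : polar Q a b = 0 := hb 2
  have hQa : Q a ≠ 0 := fun h => ha0 (key a hxa hya h)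
  have hQb : Q b ≠ 0 := fun h => hb0 (key b hxb hyb h)
  refine ⟨a, b, hxa, hxb, fun α β h => ?_⟩
  have h1 : α • a + β • b = 0 := key _ (by rw [polar_add_right, polar_smul_right, polar_smul_right, hxa, hxb]; simp)
    (by rw [polar_add_right, polar_smul_right, polar_smul_right, hya, hyb]; simp) h
  have h3 : polar Q a (α • a + β • b) = 0 := by rw [h1, polar_zero_right]
  have h4 : polar Q b (α • a + β • b) = 0 := by rw [h1, polar_zero_right]
  rw [polar_add_right, polar_smul_right, polar_smul_right, hab, polar_self', smul_eq_mul, smul_eq_mul, mul_zero,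
    add_zero] at h3
  rw [polar_add_right, polar_smul_right, polar_smul_right, polar_comm Q b a, hab, polar_self', smul_eq_mul, smul_eq_mul,
    mul_zero, zero_add] at h4
  exact ⟨(mul_eq_zero.1 h3).resolve_right (mul_ne_zero h2 hQa), (mul_eq_zero.1 h4).resolve_right (mul_ne_zero h2 hQb)⟩

end planes

section eigen

variable {F V : Type*} [Field F] [AddCommGroup V] [Module F V] {Q : QuadraticForm F V}

theorem nondeg_eig (h2 : (2 : F) ≠ 0) (hQ : Nondeg Q) {z : V ≃ₗ[F] V} (hzO : z ∈ O Q) (hz : z * z = 1) {ε : F}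
    (hε : ε * ε = 1) : Nondeg (Q.comp (eig z ε).subtype) := by
  intro u hu
  apply Subtype.ext
  apply hQ
  intro v
  obtain ⟨w, hw, w', hw', rfl⟩ := exists_decomp h2 hz hε v
  have h1 : polar Q (u : V) w = 0 := hu ⟨w, hw⟩
  rw [polar_add_right, h1, polar_eig_neg h2 hzO hz hε u.2 hw', add_zero]

theorem anis_coe {W : Submodule F V} {x a b : W} (h : Anis (Q.comp W.subtype) x a b) : Anis Q (x : V) a b :=
  ⟨h.left, h.right, fun α β h1 => h.aniso α β h1⟩

theorem eig_of [Finite F] (h2 : (2 : F) ≠ 0) (hQ : Nondeg Q) {z : V ≃ₗ[F] V} (hzO : z ∈ O Q) (hz : z * z = 1)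
    {ε : F} (hε : ε * ε = 1) (hd : 3 ≤ finrank F (eig z ε))
    (h : ∀ x : eig z ε, x ≠ 0 → Q x = 0 → ∃ a b, Anis (Q.comp (eig z ε).subtype) x a b) : Eig Q z ε where
  sq := hz
  eps := hε
  hyp := by
    obtain ⟨x, hx, hx0, hQx⟩ := exists_sing_mem (Q := Q) (eig z ε) hd
    obtain ⟨y, hxy⟩ := exists_hyp (nondeg_eig h2 hQ hzO hz hε) (x := ⟨x, hx⟩) hQx (fun h0 => hx0 (congrArg Subtype.val h0))
    exact ⟨x, y, ⟨hxy.left, hxy.right, hxy.pair⟩, hx, y.2⟩
  anis := by
    intro x hx hx0 hQx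
    obtain ⟨a, b, hab⟩ := h ⟨x, hx⟩ (fun h0 => hx0 (congrArg Subtype.val h0)) hQx
    exact ⟨a, b, a.2, b.2, anis_coe hab⟩

theorem eig_of_five [Finite F] (hF : Nat.card F = 3) (hQ : Nondeg Q) {z : V ≃ₗ[F] V} (hzO : z ∈ O Q) (hz : z * z = 1)
    {ε : F} (hε : ε * ε = 1) (hd : 5 ≤ finrank F (eig z ε)) : Eig Q z ε := by
  have h2 := Cfsg.Agent.H237.OSevenC.two_ne hF
  exact eig_of h2 hQ hzO hz hε (by omega) fun x hx0 hQx =>
    anis_of_five hF (nondeg_eig h2 hQ hzO hz hε) hd hQx hx0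

theorem eig_of_four [Finite F] (h2 : (2 : F) ≠ 0) (hQ : Nondeg Q) {z : V ≃ₗ[F] V} (hzO : z ∈ O Q) (hz : z * z = 1)
    {ε : F} (hε : ε * ε = 1) (hd : 4 ≤ finrank F (eig z ε))
    (hts : ∀ u ∈ eig z ε, ∀ v ∈ eig z ε, Q u = 0 → Q v = 0 → polar Q u v = 0 → u ≠ 0 → ∃ c : F, v = c • u) :
    Eig Q z ε := by
  refine eig_of h2 hQ hzO hz hε (by omega) fun x hx0 hQx =>
    anis_of_four h2 (nondeg_eig h2 hQ hzO hz hε) hd (fun u v hu hv huv hu0 => ?_) hQx hx0
  obtain ⟨c, hc⟩ := hts u u.2 v v.2 hu hv huv (fun h0 => hu0 (Subtype.ext h0))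
  exact ⟨c, Subtype.ext hc⟩

/-- totally singular planes span -/
theorem finrank_pair {u v : V} (hu : u ≠ 0) (h : ∀ c : F, v ≠ c • u) : finrank F (Submodule.span F {u, v}) = 2 := by
  have h1 : LinearIndependent F ![u, v] := (LinearIndependent.pair_iff' hu).2 fun c h2 => h c h2.symm
  have h2 := finrank_span_eq_card h1
  have e : Set.range ![u, v] = {u, v} := by
    rw [Matrix.range_cons, Matrix.range_cons, Matrix.range_empty, Set.union_empty]
    rfl
  rw [Fintype.card_fin, e] at h2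
  exact h2

theorem sing_span {u v : V} (hu : Q u = 0) (hv : Q v = 0) (huv : polar Q u v = 0) :
    ∀ w ∈ Submodule.span F {u, v}, Q w = 0 := by
  intro w hw
  obtain ⟨a, b, rfl⟩ := Submodule.mem_span_pair.1 hw
  rw [Q_add, QuadraticMap.map_smul, QuadraticMap.map_smul, polar_smul_left, polar_smul_right, hu, hv, huv]
  simp

theorem exists_eig [Finite F] [Module.Finite F V] (hF : Nat.card F = 3) (hQ : Nondeg Q) (hd : finrank F V = 8)
    (hno : ∀ M : Submodule F V, (∀ w ∈ M, Q w = 0) → finrank F M < 4) {z : V ≃ₗ[F] V} (hzO : z ∈ O Q)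
    (hz : z * z = 1) : ∃ ε : F, Eig Q z ε := by
  have h2 := Cfsg.Agent.H237.OSevenC.two_ne hF
  have h1 : (1 : F) * 1 = 1 := one_mul 1
  have h1' : (-1 : F) * -1 = 1 := by ring
  have hs := Submodule.finrank_sup_add_finrank_inf_eq (eig z (1 : F)) (eig z (-1))
  rw [eig_sup h2 hz, eig_disjoint h2, finrank_bot, finrank_top, hd] at hs
  by_cases h5 : 5 ≤ finrank F (eig z (1 : F))
  · exact ⟨1, eig_of_five hF hQ hzO hz h1 h5⟩
  by_cases h5' : 5 ≤ finrank F (eig z (-1 : F))
  · exact ⟨-1, eig_of_five hF hQ hzO hz h1' h5'⟩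
  have h4 : finrank F (eig z (1 : F)) = 4 := by omega
  have h4' : finrank F (eig z (-1 : F)) = 4 := by omega
  by_contra hcon
  push Not at hcon
  have hA : ∀ ε : F, ε * ε = 1 → finrank F (eig z ε) = 4 → ∃ M : Submodule F V, M ≤ eig z ε ∧ (∀ w ∈ M, Q w = 0) ∧
      finrank F M = 2 := by
    intro ε hε hfr
    have h3 : ¬ ∀ u ∈ eig z ε, ∀ v ∈ eig z ε, Q u = 0 → Q v = 0 → polar Q u v = 0 → u ≠ 0 → ∃ c : F, v = c • u :=
      fun h => hcon ε (eig_of_four h2 hQ hzO hz hε hfr.ge h)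
    push Not at h3
    obtain ⟨u, hu, v, hv, hQu, hQv, huv, hu0, hc⟩ := h3
    refine ⟨Submodule.span F {u, v}, ?_, sing_span hQu hQv huv, finrank_pair hu0 hc⟩
    rw [Submodule.span_le]
    rintro w (rfl | rfl)
    · exact hu
    · exact hv
  obtain ⟨M, hM, hMs, hMr⟩ := hA 1 h1 h4
  obtain ⟨M', hM', hMs', hMr'⟩ := hA (-1) h1' h4'
  have h6 := Submodule.finrank_sup_add_finrank_inf_eq M M'
  have h7 : M ⊓ M' = ⊥ := by
    rw [eq_bot_iff, ← eig_disjoint h2 z]
    exact inf_le_inf hM hM'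
  rw [h7, finrank_bot, hMr, hMr'] at h6
  have h8 := hno (M ⊔ M') (by
    intro w hw
    obtain ⟨m, hm, m', hm', rfl⟩ := Submodule.mem_sup.1 hw
    rw [Q_add, hMs m hm, hMs' m' hm', polar_eig_neg h2 hzO hz h1 (hM hm) (by simpa using hM' hm')]
    simp)
  omega

/-- an involution commutes with an element of order three -/
theorem exists_three [Finite F] [Module.Finite F V] (hF : Nat.card F = 3) (hQ : Nondeg Q) (hd : 7 ≤ finrank F V)
    {z : ↥(E Q)} (hz : z * z = 1) : ∃ s : ↥(E Q), s * z = z * s ∧ s ^ 3 = 1 ∧ s ≠ 1 := by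
  have h2 := Cfsg.Agent.H237.OSevenC.two_ne hF
  have h1 : (1 : F) * 1 = 1 := one_mul 1
  have h1' : (-1 : F) * -1 = 1 := by ring
  have hzz : (z : V ≃ₗ[F] V) * z = 1 := congrArg Subtype.val hz
  have hzO : (z : V ≃ₗ[F] V) ∈ O Q := E_le_O z.2
  have h3 : (3 : F) = 0 := by
    rcases Cfsg.Agent.H237.OSevenC.field_cases hF 2 with h | h | h
    · exact absurd h h2
    · exact absurd (show (1 : F) = 0 by linear_combination h) one_ne_zero
    · linear_combination h
  have hs := Submodule.finrank_sup_add_finrank_inf_eq (eig (z : V ≃ₗ[F] V) (1 : F)) (eig (z : V ≃ₗ[F] V) (-1))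
  rw [eig_sup h2 hzz, eig_disjoint h2, finrank_bot, finrank_top] at hs
  have key : ∃ ε : F, ε * ε = 1 ∧ 4 ≤ finrank F (eig (z : V ≃ₗ[F] V) ε) := by
    by_cases h5 : 4 ≤ finrank F (eig (z : V ≃ₗ[F] V) (1 : F))
    · exact ⟨1, h1, h5⟩
    · exact ⟨-1, h1', by omega⟩
  obtain ⟨ε, hε, h4⟩ := key
  obtain ⟨x, hx, hx0, hQx⟩ := exists_sing_mem (Q := Q) (eig (z : V ≃ₗ[F] V) ε) (by omega)
  have hnd := nondeg_eig h2 hQ hzO hzz hε
  obtain ⟨y, hxy⟩ := exists_hyp hnd (x := ⟨x, hx⟩) hQx (fun h0 => hx0 (congrArg Subtype.val h0))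
  obtain ⟨a, ha0, ha⟩ := exists_perp_ne (Q := Q.comp (eig (z : V ≃ₗ[F] V) ε).subtype) ![⟨x, hx⟩, y] (by omega)
  have hxa : polar Q x a = 0 := ha 0
  have hya : polar Q (y : V) a = 0 := ha 1
  have hxy1 : polar Q x y = 1 := hxy.pair
  obtain ⟨s0, hs0⟩ : ∃ s0 : ↥(E Q), s0 = ⟨siegel Q x a hQx hxa, siegel_mem_E hQx hxa⟩ := ⟨_, rfl⟩
  have hs0' : (s0 : V ≃ₗ[F] V) = siegel Q x a hQx hxa := by rw [hs0]
  refine ⟨s0, ?_, ?_, ?_⟩
  · apply Subtype.ext
    rw [Subgroup.coe_mul, Subgroup.coe_mul, hs0']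
    exact siegel_comm hzO hzz hx a.2 hQx hxa
  · apply Subtype.ext
    rw [Subgroup.coe_pow, hs0', pow_succ, pow_two]
    have hxaa : polar Q x ((a : V) + a) = 0 := by rw [polar_add_right, hxa, add_zero]
    have hxaaa : polar Q x ((a : V) + a + a) = 0 := by rw [polar_add_right, hxaa, hxa, add_zero]
    rw [siegel_mul hQx hxa hxa hxaa, siegel_mul hQx hxaa hxa hxaaa]
    apply LinearEquiv.ext
    intro v
    rw [siegel_apply]
    have h5 : (a : V) + a + a = 0 := by
      have : (a : V) + a + a = (3 : F) • (a : V) := by module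
      rw [this, h3, zero_smul]
    rw [h5]
    simp
  · intro h5
    have h6 : siegel Q x a hQx hxa = 1 := by rw [← hs0', h5]; rfl
    have h7 := DFunLike.congr_fun h6 (y : V)
    rw [siegel_apply, hxy1, one_smul, mul_one] at h7
    have h8 : (a : V) = (polar Q (a : V) y + Q (a : V)) • x := by
      have h9 : (y : V) + a - polar Q (a : V) y • x - Q (a : V) • x = y := h7
      rw [add_smul]
      calc (a : V) = ((y : V) + a - polar Q (a : V) y • x - Q (a : V) • x) - y +
          (polar Q (a : V) y • x + Q (a : V) • x) := by abel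
        _ = _ := by rw [h9]; abel
    rw [h8, polar_smul_right, polar_comm Q (y : V) x, hxy1, smul_eq_mul, mul_one] at hya
    rw [hya, zero_smul] at h8
    exact ha0 (Subtype.ext h8)

end eigen

end Cfsg.Agent.H870.Tall
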