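import Cfsg.Agent.H239.CharPLocal
import Cfsg.Agent.H237.OSevenC
import Cfsg.Agent.SignalizersComponents.CoprimeGen

/-!
# Centralizers of involutions in orthogonal groups over the field of three elements (helper870, for S2927)

`z` an involution of `E Q`, `W` an eigenspace of `z` such that the space `x^⊥ ∩ W` contains an anisotropic plane for
every singular vector `x` of `W`: the centralizer of `z` does not have characteristic two.
-/

set_option autoImplicit false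

namespace Cfsg.Agent.H870.Tall

open QuadraticMap Module Subgroup Cfsg.Agent.LieClassical Cfsg.Agent.LieClassical.OrthCore Cfsg.Agent.LieClassical.OrthTrans
  Cfsg.Agent.LieClassical.OrthFinite Cfsg.Agent.H237.OSevenB
open Cfsg.Agent.H239.CharPLocal (CP)

/-- **the abstract part** -/
theorem false_of_commute {H : Type*} [Group H] [Finite H] (h : CP 2 H) {s : H} {p : ℕ} (hp : Odd p) (hs : s ^ p = 1)
    (hs1 : s ≠ 1) (hc : ∀ r ∈ pCore 2 H, Commute (r * s * r⁻¹ * s⁻¹) s) : False := by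
  have h2 : Fact (Nat.Prime 2) := ⟨Nat.prime_two⟩
  have hR : IsPGroup 2 ↥(pCore 2 H) := Lib.Cores.pCore_isPGroup 2
  have hRn : (pCore 2 H).Normal := Lib.Cores.pCore_normal 2
  have key : ∀ g ∈ pCore 2 H, g ^ p = 1 → g = 1 := by
    intro g hg hgp
    obtain ⟨k, hk⟩ := hR ⟨g, hg⟩
    have hk' : g ^ 2 ^ k = 1 := by
      have := congrArg Subtype.val hk
      rwa [Subgroup.coe_pow] at this
    have h3 : orderOf g ∣ Nat.gcd p (2 ^ k) := Nat.dvd_gcd (orderOf_dvd_of_pow_eq_one hgp) (orderOf_dvd_of_pow_eq_one hk')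
    have h4 : Nat.gcd p (2 ^ k) = 1 := Nat.Coprime.pow_right k (Nat.coprime_two_right.2 hp)
    rw [h4] at h3
    exact orderOf_eq_one_iff.1 (Nat.dvd_one.1 h3)
  have hall : ∀ r ∈ pCore 2 H, r * s = s * r := by
    intro r hr
    set c := r * s * r⁻¹ * s⁻¹ with hcdef
    have hcm : c ∈ pCore 2 H := by
      have e : c = r * (s * r⁻¹ * s⁻¹) := by rw [hcdef]; group
      rw [e]
      exact mul_mem hr (hRn.conj_mem _ (inv_mem hr) s)
    have h1 : c * s = r * s * r⁻¹ := by rw [hcdef]; group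
    have h3 : (c * s) ^ p = 1 := by rw [h1, conj_pow, hs, mul_one, mul_inv_cancel]
    rw [(hc r hr).mul_pow, hs, mul_one] at h3
    have h4 := key c hcm h3
    rw [h4, one_mul] at h1
    calc r * s = r * s * r⁻¹ * r := by group
      _ = s * r := by rw [← h1]
  have hsR : s ∈ pCore 2 H := h (by
    rw [mem_centralizer_iff]
    exact fun r hr => hall r hr)
  exact hs1 (key s hsR hs)

section lin

variable {F V : Type*} [Field F] [AddCommGroup V] [Module F V] {Q : QuadraticForm F V}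

/-- `a`, `b` span an anisotropic plane orthogonal to `x` -/
structure Anis (Q : QuadraticForm F V) (x a b : V) : Prop where
  left : polar Q x a = 0
  right : polar Q x b = 0
  aniso : ∀ α β : F, Q (α • a + β • b) = 0 → α = 0 ∧ β = 0

theorem Anis.perp {x a b : V} (h : Anis Q x a b) (α β : F) : polar Q x (α • a + β • b) = 0 := by
  rw [polar_add_right, polar_smul_right, polar_smul_right, h.left, h.right, smul_zero, smul_zero, add_zero]

/-- the stabiliser of a line -/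
def Ln (Q : QuadraticForm F V) (x : V) : Subgroup ↥(E Q) where
  carrier := {g | ∃ c : F, c ≠ 0 ∧ (g : V ≃ₗ[F] V) x = c • x}
  one_mem' := ⟨1, one_ne_zero, by rw [one_smul]; rfl⟩
  mul_mem' := by
    rintro a b ⟨c, hc, ha⟩ ⟨d, hd, hb⟩
    refine ⟨d * c, mul_ne_zero hd hc, ?_⟩
    show (a : V ≃ₗ[F] V) ((b : V ≃ₗ[F] V) x) = _
    rw [hb, map_smul, ha, smul_smul]
  inv_mem' := by
    rintro a ⟨c, hc, ha⟩
    refine ⟨c⁻¹, inv_ne_zero hc, ?_⟩
    show (a : V ≃ₗ[F] V)⁻¹ x = _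
    have h1 : x = c⁻¹ • (a : V ≃ₗ[F] V) x := by rw [ha, smul_smul, inv_mul_cancel₀ hc, one_smul]
    nth_rewrite 1 [h1]
    rw [map_smul]
    congr 1
    exact DFunLike.congr_fun (inv_mul_cancel (a : V ≃ₗ[F] V)) x

theorem mem_Ln {x : V} {g : ↥(E Q)} : g ∈ Ln Q x ↔ ∃ c : F, c ≠ 0 ∧ (g : V ≃ₗ[F] V) x = c • x := Iff.rfl

/-- an isometry commuting with `siegel x a`, `a` nonsingular, fixes the line `x` -/
theorem line_of_comm (h2 : (2 : F) ≠ 0) {x a : V} (hx : Q x = 0) (ha : polar Q x a = 0) (hQa : Q a ≠ 0)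
    {g : V ≃ₗ[F] V} (hg : g ∈ O Q) (hx0 : x ≠ 0) (hc : ∀ v, g (siegel Q x a hx ha v) = siegel Q x a hx ha (g v)) :
    ∃ c : F, c ≠ 0 ∧ g x = c • x := by
  have h3 : siegel Q x a hx ha a = a - (2 * Q a) • x := by
    rw [siegel_apply, ha, zero_smul, add_zero, mul_zero, zero_smul, sub_zero, polar_self']
  have h4 := hc a
  rw [h3, map_sub, map_smul, siegel_apply] at h4
  have h5 : (2 * Q a) • g x = (polar Q a (g a) + Q a * polar Q x (g a)) • x - polar Q x (g a) • a := by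
    have h6 : (2 * Q a) • g x = g a - (g a - (2 * Q a) • g x) := by abel
    rw [h6, h4]
    module
  have hne : (2 * Q a) ≠ 0 := mul_ne_zero h2 hQa
  have h7 : Q ((2 * Q a) • g x) = 0 := by
    rw [QuadraticMap.map_smul, mem_O.1 hg, hx, smul_zero]
  have h8 : polar Q x (g a) = 0 := by
    rw [h5, sub_eq_add_neg, ← neg_smul, Q_add, QuadraticMap.map_smul, QuadraticMap.map_smul, hx, polar_smul_left,
      polar_smul_right, ha, smul_eq_mul, smul_eq_mul, smul_eq_mul, smul_eq_mul] at h7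
    have h9 : polar Q x (g a) * polar Q x (g a) * Q a = 0 := by linear_combination h7
    exact mul_self_eq_zero.1 ((mul_eq_zero.1 h9).resolve_right hQa)
  rw [h8, zero_smul, sub_zero, mul_zero, add_zero] at h5
  have h10 : g x = ((2 * Q a)⁻¹ * polar Q a (g a)) • x := by
    rw [mul_smul, ← h5, smul_smul, inv_mul_cancel₀ hne, one_smul]
  refine ⟨_, ?_, h10⟩
  intro h0
  rw [h0, zero_smul] at h10
  exact hx0 ((LinearEquiv.map_eq_zero_iff g).1 h10)

/-- the Siegel transformations with centre `x` and vectors in the plane -/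
def sg {x a b : V} (hx : Q x = 0) (h : Anis Q x a b) (α β : F) : V ≃ₗ[F] V :=
  siegel Q x (α • a + β • b) hx (h.perp α β)

theorem sg_mem {x a b : V} (hx : Q x = 0) (h : Anis Q x a b) (α β : F) : sg hx h α β ∈ E Q := siegel_mem_E hx _

theorem sg_mul {x a b : V} (hx : Q x = 0) (h : Anis Q x a b) (α β γ δ : F) :
    sg hx h α β * sg hx h γ δ = sg hx h (α + γ) (β + δ) := by
  unfold sg
  rw [siegel_mul hx _ _ (by rw [polar_add_right, h.perp, h.perp, add_zero])]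
  congr 1
  module

theorem sg_zero {x a b : V} (hx : Q x = 0) (h : Anis Q x a b) : sg hx h 0 0 = 1 := by
  apply LinearEquiv.ext
  intro v
  unfold sg
  rw [siegel_apply]
  simp

theorem sg_eq_one {x a b : V} (hx : Q x = 0) (h : Anis Q x a b) {α β : F} (hQ : Nondeg Q) (hx0 : x ≠ 0)
    (h1 : sg hx h α β = 1) : α = 0 ∧ β = 0 := by
  by_contra hne
  have hQa : Q (α • a + β • b) ≠ 0 := fun h0 => hne (h.aniso α β h0)
  obtain ⟨v, hv⟩ := hQ.exists_polar_eq hx0 1
  have h2 := DFunLike.congr_fun h1 v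
  unfold sg at h2
  rw [siegel_apply, hv, one_smul, mul_one] at h2
  have h3 : α • a + β • b = (polar Q (α • a + β • b) v + Q (α • a + β • b)) • x := by
    have h4 : v + (α • a + β • b) - polar Q (α • a + β • b) v • x - Q (α • a + β • b) • x = v := h2
    have h5 : α • a + β • b - (polar Q (α • a + β • b) v • x + Q (α • a + β • b) • x) = 0 := by
      calc _ = (v + (α • a + β • b) - polar Q (α • a + β • b) v • x - Q (α • a + β • b) • x) - v := by abel
        _ = 0 := by rw [h4, sub_self]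
    rw [add_smul]
    exact sub_eq_zero.1 h5
  apply hQa
  rw [h3, QuadraticMap.map_smul, hx, smul_zero]

/-- the group of the Siegel transformations with centre `x` and vectors in the plane -/
def Ug {x a b : V} (hx : Q x = 0) (h : Anis Q x a b) : Subgroup ↥(E Q) where
  carrier := {g | ∃ α β : F, (g : V ≃ₗ[F] V) = sg hx h α β}
  one_mem' := ⟨0, 0, (sg_zero hx h).symm⟩
  mul_mem' := by
    rintro g g' ⟨α, β, hg⟩ ⟨γ, δ, hg'⟩
    refine ⟨α + γ, β + δ, ?_⟩
    rw [Subgroup.coe_mul, hg, hg', sg_mul]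
  inv_mem' := by
    rintro g ⟨α, β, hg⟩
    refine ⟨-α, -β, ?_⟩
    rw [Subgroup.coe_inv, inv_eq_iff_mul_eq_one, hg, sg_mul, add_neg_cancel, add_neg_cancel, sg_zero]

theorem sg_pow {x a b : V} (hx : Q x = 0) (h : Anis Q x a b) (α β : F) (n : ℕ) :
    sg hx h α β ^ n = sg hx h (n * α) (n * β) := by
  induction n with
  | zero => rw [pow_zero, Nat.cast_zero, zero_mul, zero_mul, sg_zero]
  | succ n ih =>
    rw [pow_succ, ih, sg_mul]
    push_cast
    congr 1 <;> ring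

theorem sg_cube (h3 : (3 : F) = 0) {x a b : V} (hx : Q x = 0) (h : Anis Q x a b) (α β : F) :
    sg hx h α β ^ 3 = 1 := by
  rw [sg_pow]
  push_cast
  rw [h3, zero_mul, zero_mul, sg_zero]

theorem Ug_elementary (h3 : (3 : F) = 0) {x a b : V} (hx : Q x = 0) (h : Anis Q x a b) :
    Cfsg.IsElementaryAbelian 3 (Ug hx h) := by
  refine ⟨⟨⟨?_⟩⟩, ?_⟩
  · rintro ⟨g, α, β, hg⟩ ⟨g', γ, δ, hg'⟩
    apply Subtype.ext
    apply Subtype.ext
    show (g : V ≃ₗ[F] V) * (g' : V ≃ₗ[F] V) = (g' : V ≃ₗ[F] V) * (g : V ≃ₗ[F] V)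
    rw [hg, hg', sg_mul, sg_mul, add_comm, add_comm β]
  · rintro g ⟨α, β, hg⟩
    apply Subtype.ext
    rw [Subgroup.coe_pow, hg, sg_cube h3]
    rfl

theorem card_Ug [Finite F] [Finite ↥(E Q)] (hF : Nat.card F = 3) (hQ : Nondeg Q) {x a b : V} (hx : Q x = 0)
    (hx0 : x ≠ 0) (h : Anis Q x a b) : 3 ^ 2 ≤ Nat.card (Ug hx h) := by
  let f : F × F → Ug hx h := fun c => ⟨⟨sg hx h c.1 c.2, sg_mem hx h _ _⟩, c.1, c.2, rfl⟩
  have hf : Function.Injective f := by
    rintro ⟨α, β⟩ ⟨γ, δ⟩ heq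
    have h1 : sg hx h α β = sg hx h γ δ := congrArg (fun g : Ug hx h => ((g : ↥(E Q)) : V ≃ₗ[F] V)) heq
    have h2 : sg hx h (α - γ) (β - δ) = 1 := by
      have h3 : sg hx h (α - γ) (β - δ) * sg hx h γ δ = sg hx h α β := by
        rw [sg_mul, sub_add_cancel, sub_add_cancel]
      rw [h1] at h3
      exact mul_eq_right.1 h3
    obtain ⟨h3, h4⟩ := sg_eq_one hx h hQ hx0 h2
    rw [sub_eq_zero.1 h3, sub_eq_zero.1 h4]
  have h1 := Nat.card_le_card_of_injective f hf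
  rwa [Nat.card_prod, hF] at h1

end lin

section main

variable {F V : Type*} [Field F] [AddCommGroup V] [Module F V] {Q : QuadraticForm F V}

/-- the hypotheses on the eigenspace of `z` -/
structure Eig (Q : QuadraticForm F V) (z : V ≃ₗ[F] V) (ε : F) : Prop where
  sq : z * z = 1
  eps : ε * ε = 1
  hyp : ∃ x y, Hyp Q x y ∧ x ∈ eig z ε ∧ y ∈ eig z ε
  anis : ∀ x ∈ eig z ε, x ≠ 0 → Q x = 0 → ∃ a b, a ∈ eig z ε ∧ b ∈ eig z ε ∧ Anis Q x a b

theorem eig_map {z g : V ≃ₗ[F] V} (h : g * z = z * g) {c : F} {v : V} (hv : v ∈ eig z c) : g v ∈ eig z c := by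
  have h1 : g (z v) = z (g v) := DFunLike.congr_fun h v
  rw [mem_eig] at hv ⊢
  rw [← h1, hv, map_smul]

theorem polar_eig {z : V ≃ₗ[F] V} (hzO : z ∈ O Q) (hz : z * z = 1) {c : F} {u : V} (hu : u ∈ eig z c) (v : V) :
    polar Q u (z v) = c * polar Q u v := by
  have h1 : z (z v) = v := DFunLike.congr_fun hz v
  have h2 := polar_map hzO u (z v)
  rw [h1, mem_eig.1 hu, polar_smul_left] at h2
  exact h2.symm

theorem polar_eig_neg (h2 : (2 : F) ≠ 0) {z : V ≃ₗ[F] V} (hzO : z ∈ O Q) (hz : z * z = 1) {c : F} (hc : c * c = 1)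
    {u v : V} (hu : u ∈ eig z c) (hv : v ∈ eig z (-c)) : polar Q u v = 0 := by
  have h1 := polar_eig hzO hz hu v
  rw [mem_eig.1 hv, polar_smul_right, smul_eq_mul] at h1
  have hc0 : c ≠ 0 := by
    rintro rfl
    rw [mul_zero] at hc
    exact zero_ne_one hc
  have h3 : 2 * c * polar Q u v = 0 := by linear_combination -h1
  exact (mul_eq_zero.1 h3).resolve_left (mul_ne_zero h2 hc0)

theorem siegel_comm {z : V ≃ₗ[F] V} (hzO : z ∈ O Q) (hz : z * z = 1) {c : F} {u w : V}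
    (hu : u ∈ eig z c) (hw : w ∈ eig z c) (hQu : Q u = 0) (huw : polar Q u w = 0) :
    siegel Q u w hQu huw * z = z * siegel Q u w hQu huw := by
  apply LinearEquiv.ext
  intro v
  show siegel Q u w hQu huw (z v) = z (siegel Q u w hQu huw v)
  rw [siegel_apply, siegel_apply, polar_eig hzO hz hu, polar_eig hzO hz hw, map_sub, map_sub, map_add, map_smul,
    map_smul, map_smul, mem_eig.1 hu, mem_eig.1 hw]
  module

theorem siegel_fix {u w v : V} (hQu : Q u = 0) (huw : polar Q u w = 0) (h1 : polar Q u v = 0)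
    (h2 : polar Q w v = 0) : siegel Q u w hQu huw v = v := by
  rw [siegel_apply, h1, h2]
  simp

/-- an isometry fixing the singular lines of a subspace acts as a scalar -/
theorem scalar_of_lines {W : Submodule F V} {g : V ≃ₗ[F] V} (hg : g ∈ O Q)
    (hF : ∀ c : F, c ≠ 0 → c * c = 1)
    {x y : V} (hxy : Hyp Q x y) (hx : x ∈ W) (hy : y ∈ W)
    (hl : ∀ u ∈ W, u ≠ 0 → Q u = 0 → ∃ c : F, c ≠ 0 ∧ g u = c • u) :
    ∃ c : F, c * c = 1 ∧ ∀ w ∈ W, g w = c • w := by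
  obtain ⟨c, hc0, hc⟩ := hl x hx hxy.left_ne hxy.left
  obtain ⟨d, hd0, hd⟩ := hl y hy hxy.right_ne hxy.right
  have hcc := hF c hc0
  have hcd : c * d = 1 := by
    have h1 := polar_map hg x y
    rw [hc, hd, polar_smul_left, polar_smul_right, hxy.pair, smul_eq_mul, smul_eq_mul, mul_one] at h1
    exact h1
  have hdc : d = c := by
    have : c * d = c * c := by rw [hcd, hcc]
    exact mul_left_cancel₀ hc0 this
  rw [hdc] at hd
  have key : ∀ v ∈ W, polar Q x v = 0 → polar Q y v = 0 → g v = c • v := by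
    intro v hv hxv hyv
    set u := x + v - Q v • y with hu
    have huW : u ∈ W := W.sub_mem (W.add_mem hx hv) (W.smul_mem _ hy)
    have hyu : polar Q y u = 1 := by
      rw [hu, polar_sub_right, polar_add_right, polar_smul_right, hxy.pair', hyv, hxy.polar_right, smul_zero, sub_zero,
        add_zero]
    have hu0 : u ≠ 0 := by
      intro h0
      rw [h0, polar_zero_right] at hyu
      exact zero_ne_one hyu
    have hQu : Q u = 0 := by
      rw [hu, sub_eq_add_neg, ← neg_smul, Q_add, Q_add, QuadraticMap.map_smul, hxy.left, hxy.right, hxv,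
        polar_smul_right, polar_add_left, hxy.pair, polar_comm Q v y, hyv]
      simp
    obtain ⟨e, he0, he⟩ := hl u huW hu0 hQu
    have hgu : g u = c • x + g v - (Q v * c) • y := by
      rw [hu, map_sub, map_add, map_smul, hc, hd, smul_smul]
    have hygv : polar Q y (g v) = 0 := by
      have h1 : polar Q (g y) (g v) = 0 := by rw [polar_map hg, hyv]
      rw [hd, polar_smul_left, smul_eq_mul] at h1
      exact (mul_eq_zero.1 h1).resolve_left hc0
    have hec : e = c := by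
      have h1 : polar Q y (g u) = c := by
        rw [hgu, polar_sub_right, polar_add_right, polar_smul_right, polar_smul_right, hxy.pair', hygv,
          hxy.polar_right, smul_eq_mul, smul_zero, mul_one, add_zero, sub_zero]
      rw [he, polar_smul_right, hyu, smul_eq_mul, mul_one] at h1
      exact h1
    have h2 : g v = g u - c • x + (Q v * c) • y := by
      rw [hgu]; abel
    rw [h2, he, hec, hu]
    module
  refine ⟨c, hcc, fun w hw => ?_⟩
  have h1 : w = polar Q y w • x + polar Q x w • y + OrthTrans.proj Q x y w := by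
    unfold OrthTrans.proj
    abel
  have h2 : OrthTrans.proj Q x y w ∈ W :=
    W.sub_mem (W.sub_mem hw (W.smul_mem _ hx)) (W.smul_mem _ hy)
  have h3 := key _ h2 (polar_proj_left hxy w) (polar_proj_right hxy w)
  calc g w = g (polar Q y w • x + polar Q x w • y + OrthTrans.proj Q x y w) := by rw [← h1]
    _ = c • (polar Q y w • x + polar Q x w • y + OrthTrans.proj Q x y w) := by
        rw [map_add, map_add, map_smul, map_smul, hc, hd, h3]
        module
    _ = c • w := by rw [← h1]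

theorem exists_decomp (h2 : (2 : F) ≠ 0) {z : V ≃ₗ[F] V} (hz : z * z = 1) {ε : F} (hε : ε * ε = 1) (v : V) :
    ∃ w ∈ eig z ε, ∃ w' ∈ eig z (-ε), v = w + w' := by
  have hε' : -ε * -ε = 1 := by rw [neg_mul_neg, hε]
  refine ⟨(2 : F)⁻¹ • (v + ε • z v), Submodule.smul_mem _ _ (mem_of_add hz hε v),
    (2 : F)⁻¹ • (v + (-ε) • z v), Submodule.smul_mem _ _ (mem_of_add hz hε' v), ?_⟩
  rw [← smul_add]
  have : v + ε • z v + (v + -ε • z v) = (2 : F) • v := by module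
  rw [this, smul_smul, inv_mul_cancel₀ h2, one_smul]

theorem inv_apply_self' {C : Subgroup ↥(E Q)} (g : ↥C) (v : V) :
    (((g⁻¹ : ↥C) : ↥(E Q)) : V ≃ₗ[F] V) (((g : ↥(E Q)) : V ≃ₗ[F] V) v) = v := by
  rw [Subgroup.coe_inv, Subgroup.coe_inv]
  exact DFunLike.congr_fun (inv_mul_cancel ((g : ↥(E Q)) : V ≃ₗ[F] V)) v

theorem apply_inv_self' {C : Subgroup ↥(E Q)} (g : ↥C) (v : V) :
    ((g : ↥(E Q)) : V ≃ₗ[F] V) ((((g⁻¹ : ↥C) : ↥(E Q)) : V ≃ₗ[F] V) v) = v := by
  rw [Subgroup.coe_inv, Subgroup.coe_inv]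
  exact DFunLike.congr_fun (mul_inv_cancel ((g : ↥(E Q)) : V ≃ₗ[F] V)) v

set_option maxHeartbeats 2000000 in
/-- **the centralizer does not have characteristic two** -/
theorem not_cp [Finite V] (hF : Nat.card F = 3) (hQ : Nondeg Q) {z : ↥(E Q)} {ε : F} (h : Eig Q (z : V ≃ₗ[F] V) ε) :
    ¬ CP 2 ↥(centralizer ({z} : Set ↥(E Q))) := by
  intro hcp
  have hp2 : Fact (Nat.Prime 2) := ⟨Nat.prime_two⟩
  have hp3 : Fact (Nat.Prime 3) := ⟨Nat.prime_three⟩
  have hFf : Finite F := Nat.finite_of_card_ne_zero (by omega)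
  have hVf : Finite (V ≃ₗ[F] V) := Finite.of_injective (fun g : V ≃ₗ[F] V => (g : V → V)) DFunLike.coe_injective
  have hcases := Cfsg.Agent.H237.OSevenC.field_cases hF
  have h2 : (2 : F) ≠ 0 := Cfsg.Agent.H237.OSevenC.two_ne hF
  have hsq : ∀ c : F, c ≠ 0 → c * c = 1 := by
    intro c hc
    rcases hcases c with h1 | h1 | h1
    · exact absurd h1 hc
    · rw [h1, mul_one]
    · rw [h1]; ring
  have h3 : (3 : F) = 0 := by
    have h4 := hsq 2 h2
    linear_combination h4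
  have hzO : (z : V ≃ₗ[F] V) ∈ O Q := E_le_O z.2
  set C := centralizer ({z} : Set ↥(E Q)) with hC
  set W := eig (z : V ≃ₗ[F] V) ε with hW
  set W' := eig (z : V ≃ₗ[F] V) (-ε) with hW'
  set R : Subgroup ↥(E Q) := (pCore 2 ↥C).map C.subtype with hR
  have hR2 : IsPGroup 2 ↥R := (Lib.Cores.pCore_isPGroup 2).map C.subtype
  have hCm : ∀ g : ↥(E Q), g ∈ C ↔ (g : V ≃ₗ[F] V) * z = z * g := by
    intro g
    rw [hC, mem_centralizer_singleton_iff, Subtype.ext_iff]
    exact Iff.rfl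
  have hRC : R ≤ C := by
    rintro _ ⟨r, -, rfl⟩
    exact r.2
  have hRn : ∀ g ∈ C, ∀ r ∈ R, g * r * g⁻¹ ∈ R := by
    rintro g hg _ ⟨r, hr, rfl⟩
    have h4 : (⟨g, hg⟩ : ↥C) * r * (⟨g, hg⟩ : ↥C)⁻¹ ∈ pCore 2 ↥C :=
      (Lib.Cores.pCore_normal 2).conj_mem r hr ⟨g, hg⟩
    exact mem_map_of_mem C.subtype h4
  have hdec : ∀ v : V, ∃ w ∈ W, ∃ w' ∈ W', v = w + w' := exists_decomp h2 h.sq h.eps
  have horth : ∀ u ∈ W, ∀ v ∈ W', polar Q u v = 0 := fun u hu v hv => polar_eig_neg h2 hzO h.sq h.eps hu hv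
  -- the subgroup `N`
  let N : Subgroup ↥(E Q) :=
    { carrier := {n | n ∈ R ∧ ∀ v ∈ W', (n : V ≃ₗ[F] V) v = v}
      one_mem' := ⟨one_mem R, fun v _ => rfl⟩
      mul_mem' := by
        rintro a b ⟨ha, ha'⟩ ⟨hb, hb'⟩
        refine ⟨mul_mem ha hb, fun v hv => ?_⟩
        show (a : V ≃ₗ[F] V) ((b : V ≃ₗ[F] V) v) = v
        rw [hb' v hv, ha' v hv]
      inv_mem' := by
        rintro a ⟨ha, ha'⟩
        refine ⟨inv_mem ha, fun v hv => ?_⟩
        show (a : V ≃ₗ[F] V)⁻¹ v = v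
        nth_rewrite 1 [← ha' v hv]
        exact DFunLike.congr_fun (inv_mul_cancel (a : V ≃ₗ[F] V)) v }
  have hNR : N ≤ R := fun n hn => hn.1
  have hN2 : IsPGroup 2 ↥N := hR2.to_le hNR
  have hN3 : ¬ 3 ∣ Nat.card N := by
    obtain ⟨k, hk⟩ := hN2.exists_card_eq
    rw [hk]
    intro h4
    have := Nat.Prime.dvd_of_dvd_pow Nat.prime_three h4
    omega
  have hline : ∀ x ∈ W, x ≠ 0 → Q x = 0 → N ≤ Ln Q x := by
    intro x hx hx0 hQx
    obtain ⟨a, b, ha, hb, hab⟩ := h.anis x hx hx0 hQx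
    have hUC : ∀ g ∈ Ug hQx hab, g ∈ C ∧ ∀ v ∈ W', (g : V ≃ₗ[F] V) v = v := by
      rintro g ⟨α, β, hg⟩
      have hw : α • a + β • b ∈ W := W.add_mem (W.smul_mem _ ha) (W.smul_mem _ hb)
      refine ⟨?_, fun v hv => ?_⟩
      · rw [hCm, hg]
        exact siegel_comm hzO h.sq hx hw hQx _
      · rw [hg]
        exact siegel_fix hQx _ (horth x hx v hv) (horth _ hw v hv)
    have hnorm : Ug hQx hab ≤ normalizer (N : Set ↥(E Q)) := by
      have key : ∀ g ∈ Ug hQx hab, ∀ n ∈ N, g * n * g⁻¹ ∈ N := by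
        rintro g hg n ⟨hn, hn'⟩
        obtain ⟨hgC, hgW⟩ := hUC g hg
        obtain ⟨-, hgW'⟩ := hUC g⁻¹ (inv_mem hg)
        refine ⟨hRn g hgC n hn, fun v hv => ?_⟩
        show (g : V ≃ₗ[F] V) ((n : V ≃ₗ[F] V) (((g⁻¹ : ↥(E Q)) : V ≃ₗ[F] V) v)) = v
        rw [hgW' v hv, hn' v hv, hgW v hv]
      intro g hg
      rw [mem_normalizer_iff]
      intro n
      refine ⟨fun hn => key g hg n hn, fun hn => ?_⟩
      have h4 := key g⁻¹ (inv_mem hg) _ hn
      have e : g⁻¹ * (g * n * g⁻¹) * g⁻¹⁻¹ = n := by group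
      rwa [e] at h4
    have hgen := Cfsg.Agent.SignalizersComponents.CoprimeGen.le_iSup_centralizer_ne_one (Ug_elementary h3 hQx hab)
      (card_Ug hF hQ hQx hx0 hab) hN3 hnorm
    refine hgen.trans (iSup_le ?_)
    rintro ⟨s, hsU, hs1⟩ g ⟨hgN, hgc⟩
    obtain ⟨α, β, hs⟩ := hsU
    have hQa : Q (α • a + β • b) ≠ 0 := by
      intro h0
      obtain ⟨rfl, rfl⟩ := hab.aniso α β h0
      apply hs1
      apply Subtype.ext
      rw [hs, sg_zero]
      rfl
    refine line_of_comm h2 hQx (hab.perp α β) hQa (E_le_O g.2) hx0 fun v => ?_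
    have h4 : g * s = s * g := mem_centralizer_singleton_iff.1 hgc
    have h5 : (g : V ≃ₗ[F] V) * (s : V ≃ₗ[F] V) = (s : V ≃ₗ[F] V) * (g : V ≃ₗ[F] V) := congrArg Subtype.val h4
    rw [hs] at h5
    exact DFunLike.congr_fun h5 v
  obtain ⟨x, y, hxy, hx, hy⟩ := h.hyp
  have hscal : ∀ n ∈ N, ∃ c : F, c * c = 1 ∧ ∀ w ∈ W, (n : V ≃ₗ[F] V) w = c • w := fun n hn =>
    scalar_of_lines (E_le_O n.2) hsq hxy hx hy fun u hu hu0 hQu => hline u hu hu0 hQu hn
  -- the Siegel transformation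
  obtain ⟨a, b, ha, hb, hab⟩ := h.anis x hx hxy.left_ne hxy.left
  set s0 := sg hxy.left hab 1 0 with hs0
  have hw : (1 : F) • a + (0 : F) • b ∈ W := W.add_mem (W.smul_mem _ ha) (W.smul_mem _ hb)
  have hsC : (⟨s0, sg_mem hxy.left hab 1 0⟩ : ↥(E Q)) ∈ C := by
    rw [hCm]
    exact siegel_comm hzO h.sq hx hw hxy.left (hab.perp 1 0)
  have hsW' : ∀ v ∈ W', s0 v = v := fun v hv => siegel_fix hxy.left (hab.perp 1 0) (horth x hx v hv) (horth _ hw v hv)
  have hsW : ∀ v ∈ W, s0 v ∈ W := fun v hv => eig_map ((hCm _).1 hsC) hv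
  refine false_of_commute (H := ↥C) hcp (s := ⟨⟨s0, sg_mem hxy.left hab 1 0⟩, hsC⟩) (p := 3) (by decide) ?_ ?_ ?_
  · apply Subtype.ext
    apply Subtype.ext
    exact sg_cube h3 hxy.left hab 1 0
  · intro h1
    have h4 : s0 = 1 := congrArg (fun g : ↥C => ((g : ↥(E Q)) : V ≃ₗ[F] V)) h1
    exact one_ne_zero (sg_eq_one hxy.left hab hQ hxy.left_ne h4).1
  · intro r hr
    obtain ⟨s, hs⟩ : ∃ s : ↥C, s = ⟨⟨s0, sg_mem hxy.left hab 1 0⟩, hsC⟩ := ⟨_, rfl⟩
    rw [← hs]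
    have hsv : ∀ v, ((s : ↥(E Q)) : V ≃ₗ[F] V) v = s0 v := by
      intro v; rw [hs]
    have hcN : ((r * s * r⁻¹ * s⁻¹ : ↥C) : ↥(E Q)) ∈ N := by
      constructor
      · refine ⟨r * s * r⁻¹ * s⁻¹, ?_, rfl⟩
        have e : r * s * r⁻¹ * s⁻¹ = r * (s * r⁻¹ * s⁻¹) := by group
        rw [e]
        exact mul_mem hr ((Lib.Cores.pCore_normal 2).conj_mem _ (inv_mem hr) s)
      · intro v hv
        have hr1 : ((r : ↥(E Q)) : V ≃ₗ[F] V) * z = z * ((r : ↥(E Q)) : V ≃ₗ[F] V) := (hCm _).1 r.2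
        have hr2 : (((r⁻¹ : ↥C) : ↥(E Q)) : V ≃ₗ[F] V) * z = z * (((r⁻¹ : ↥C) : ↥(E Q)) : V ≃ₗ[F] V) :=
          (hCm _).1 (r⁻¹).2
        have h4 : (((s⁻¹ : ↥C) : ↥(E Q)) : V ≃ₗ[F] V) v = v := by
          have h5 : s0 v = v := hsW' v hv
          have h6 : (((s⁻¹ : ↥C) : ↥(E Q)) : V ≃ₗ[F] V) (((s : ↥(E Q)) : V ≃ₗ[F] V) v) = v := inv_apply_self' s v
          rwa [hsv, h5] at h6
        show ((r : ↥(E Q)) : V ≃ₗ[F] V) (((s : ↥(E Q)) : V ≃ₗ[F] V) ((((r⁻¹ : ↥C) : ↥(E Q)) : V ≃ₗ[F] V)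
          ((((s⁻¹ : ↥C) : ↥(E Q)) : V ≃ₗ[F] V) v))) = v
        rw [h4, hsv, hsW' _ (eig_map hr2 hv)]
        exact apply_inv_self' r v
    obtain ⟨c, -, hc⟩ := hscal _ hcN
    apply Subtype.ext
    apply Subtype.ext
    apply LinearEquiv.ext
    intro v
    obtain ⟨w, hwW, w', hw', rfl⟩ := hdec v
    show (((r * s * r⁻¹ * s⁻¹ : ↥C) : ↥(E Q)) : V ≃ₗ[F] V) (((s : ↥(E Q)) : V ≃ₗ[F] V) (w + w')) =
      ((s : ↥(E Q)) : V ≃ₗ[F] V) ((((r * s * r⁻¹ * s⁻¹ : ↥C) : ↥(E Q)) : V ≃ₗ[F] V) (w + w'))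
    rw [hsv, hsv, map_add, map_add, map_add, map_add, hsW' w' hw', hcN.2 w' hw', hsW' w' hw', hc _ (hsW w hwW),
      hc w hwW, map_smul]

end main

end Cfsg.Agent.H870.Tall
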